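import Groth.Agent.S0384
import Groth.Agent.S8859
import Groth.Agent.S1682
import Groth.Agent.BlowUpLib.Glue
import Groth.Agent.VarDim.Top
import Mathlib.AlgebraicGeometry.Noetherian
import Mathlib.AlgebraicGeometry.IdealSheaf.Subscheme

/-!
# Compactifications with affine inclusion
-/

set_option linter.style.haveILetI false
set_option backward.isDefEq.respectTransparency false
set_option backward.isDefEq.respectTransparency.types false

universe u

open CategoryTheory CategoryTheory.Limits AlgebraicGeometry TopologicalSpace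

namespace Groth.Agent.Licht7

open Groth.Agent

/-- Over a field: a compactification whose boundary is a Cartier divisor. -/
theorem exists_compactification {k : Type u} [Field k] {X : Scheme.{u}} (f : X ⟶ Spec (CommRingCat.of k))
    [IsSeparated f] [LocallyOfFiniteType f] [QuasiCompact f] :
    ∃ (X' : Scheme.{u}) (j : X ⟶ X') (g : X' ⟶ Spec (CommRingCat.of k)) (_ : IsOpenImmersion j)
      (_ : IsAffineHom j) (_ : IsProper g), j ≫ g = f ∧
      (∀ x : X', x ∉ Set.range j → ∃ (V : X'.Opens) (_ : IsAffineOpen V) (e : Γ(X', V)),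
        x ∈ V ∧ V ⊓ j.opensRange = X'.basicOpen e) ∧
      topologicalKrullDim X' ≤ topologicalKrullDim X := by
  obtain ⟨X₁, j₁, g₁, hj₁, hqc, hg₁, hfac₁⟩ := Groth.Agent.S0384.result f
  haveI : IsLocallyNoetherian X₁ := LocallyOfFiniteType.isLocallyNoetherian g₁
  let U₁ : X₁.Opens := j₁.opensRange
  let Z : Closeds X₁ := ⟨(U₁ : Set X₁)ᶜ, U₁.2.isClosed_compl⟩
  let C := Scheme.IdealSheafData.vanishingIdeal Z
  have hC : BlowUp.IsFiniteTypeIdeal C := fun U =>
    haveI := IsLocallyNoetherian.component_noetherian U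
    IsNoetherian.noetherian _
  obtain ⟨X', b, hb⟩ := Groth.Agent.S8859.result X₁ C
  haveI := BlowUpLib.isProper_of_isBlowUp C hb hC
  have hcompl : C.support.compl = U₁ := Opens.ext <| by
    show (C.support : Set X₁)ᶜ = _
    rw [Scheme.IdealSheafData.coe_support_vanishingIdeal]
    exact compl_compl _
  haveI : IsIso (b ∣_ U₁) := hcompl ▸ Groth.Agent.S1682.result C b hb
  let j : X ⟶ X' := (j₁.isoOpensRange.hom ≫ inv (b ∣_ U₁)) ≫ (b ⁻¹ᵁ U₁).ι
  have hjb : j ≫ b = j₁ := by
    show ((j₁.isoOpensRange.hom ≫ inv (b ∣_ U₁)) ≫ (b ⁻¹ᵁ U₁).ι) ≫ b = j₁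
    rw [Category.assoc, ← morphismRestrict_ι, Category.assoc, IsIso.inv_hom_id_assoc,
      Scheme.Hom.isoOpensRange_hom_ι]
  have hrange : j.opensRange = b ⁻¹ᵁ U₁ := by
    show ((j₁.isoOpensRange.hom ≫ inv (b ∣_ U₁)) ≫ (b ⁻¹ᵁ U₁).ι).opensRange = _
    rw [Scheme.Hom.opensRange_comp_of_isIso, Scheme.Opens.opensRange_ι]
  have hloc : ∀ x : X', ∃ (V : X'.Opens) (_ : IsAffineOpen V) (e : Γ(X', V)),
      x ∈ V ∧ e ∈ nonZeroDivisors Γ(X', V) ∧ V ⊓ j.opensRange = X'.basicOpen e := fun x => by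
    obtain ⟨V, hxV, e, he, hV⟩ := hb.1 x
    refine ⟨V.1, V.2, e, hxV, he, Opens.ext ?_⟩
    have h := (C.comap b).coe_support_inter V
    rw [hV, Scheme.zeroLocus_span, Scheme.zeroLocus_singleton, Scheme.IdealSheafData.support_comap] at h
    ext z
    have hz := Set.ext_iff.1 h z
    have hc : z ∈ (C.support.preimage b.continuous : Closeds X') ↔ z ∉ j.opensRange := by
      rw [hrange]
      show b z ∈ (C.support : Set X₁) ↔ b z ∉ U₁
      rw [Scheme.IdealSheafData.coe_support_vanishingIdeal]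
      rfl
    simp only [Set.mem_inter_iff, SetLike.mem_coe, Set.mem_compl_iff] at hz
    show z ∈ V.1 ∧ z ∈ j.opensRange ↔ z ∈ X'.basicOpen e
    constructor
    · rintro ⟨h1, h2⟩
      by_contra h3
      exact hc.1 (hz.2 ⟨h3, h1⟩).1 h2
    · intro h3
      have h1 : z ∈ V.1 := X'.basicOpen_le e h3
      refine ⟨h1, ?_⟩
      by_contra h2
      exact (hz.1 ⟨hc.2 h2, h1⟩).1 h3
  haveI : IsAffineHom j := isAffineHom_of_forall_exists_isAffineOpen _ fun x => by
    obtain ⟨V, hV, e, hxV, -, he⟩ := hloc x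
    refine ⟨V, hxV, hV, (j.isAffineOpen_iff_of_isOpenImmersion).1 ?_⟩
    rw [j.image_preimage_eq_opensRange_inf, inf_comm, he]
    exact hV.basicOpen e
  have hfac : j ≫ b ≫ g₁ = f := by rw [← Category.assoc, hjb, hfac₁]
  refine ⟨X', j, b ≫ g₁, inferInstance, inferInstance, inferInstance, hfac,
    fun x _ => (hloc x).imp fun V h => h.imp fun hV h => h.imp fun e h => ⟨h.1, h.2.2⟩, ?_⟩
  haveI : IsLocallyNoetherian X' := LocallyOfFiniteType.isLocallyNoetherian (b ≫ g₁)
  haveI : CompactSpace X' := QuasiCompact.compactSpace_of_compactSpace (b ≫ g₁)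
  haveI : IsNoetherian X' := ⟨⟩
  rw [VarDim.topologicalKrullDim_eq_iSup_deg (b ≫ g₁), VarDim.topologicalKrullDim_eq_iSup_deg f]
  refine iSup_le fun x => ?_
  obtain ⟨T, hT, hsub⟩ := exists_mem_irreducibleComponents_subset_of_isIrreducible ({x} : Set X')
    isIrreducible_singleton
  obtain ⟨η, hη⟩ := QuasiSober.sober hT.1 (isClosed_of_mem_irreducibleComponents T hT)
  let others : Set (Set X') := irreducibleComponents X' \ {T}
  let o : Set X' := (⋃₀ others)ᶜ
  have ho : IsOpen o := by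
    refine IsClosed.isOpen_compl (self := ?_)
    rw [Set.sUnion_eq_biUnion]
    exact Set.Finite.isClosed_biUnion (NoetherianSpace.finite_irreducibleComponents.diff (t := {T}))
      fun S hS => isClosed_of_mem_irreducibleComponents S hS.1
  have hz : η ∈ o := by
    rintro ⟨S, ⟨hS, hne⟩, hηS⟩
    have hTS : T ⊆ S := hη.def ▸ closure_minimal (Set.singleton_subset_iff.2 hηS)
      (isClosed_of_mem_irreducibleComponents S hS)
    exact hne (Set.Subset.antisymm (hT.2 hS.1 hTS) hTS)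
  have hoT : o ⊆ T := fun y hy => by
    obtain ⟨S, hS, hyS⟩ : ∃ S ∈ irreducibleComponents X', y ∈ S :=
      ⟨irreducibleComponent y, irreducibleComponent_mem_irreducibleComponents y, mem_irreducibleComponent⟩
    by_contra hyT
    exact hy ⟨S, ⟨hS, fun h => hyT ((Set.mem_singleton_iff.1 h) ▸ hyS)⟩, hyS⟩
  -- the boundary contains no nonempty open
  obtain ⟨p, hpo, hpj⟩ : ∃ p ∈ o, p ∈ j.opensRange := by
    by_contra hcon
    push Not at hcon
    obtain ⟨V, hV, e, hzV, he, hVe⟩ := hloc η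
    obtain ⟨g, hg, hzg⟩ := hV.exists_basicOpen_le (V := ⟨o, ho⟩) ⟨η, hz⟩ hzV
    have hbot : X'.basicOpen (g * e) = ⊥ := by
      rw [X'.basicOpen_mul, eq_bot_iff, ← hVe]
      rintro y ⟨hy1, -, hy2⟩
      exact hcon y (hg hy1) hy2
    haveI : IsAffine V.toScheme := hV
    obtain ⟨n, hn⟩ : IsNilpotent (g * e) := (X'.isNilpotent_iff_basicOpen_eq_bot_of_isCompact hV.isCompact _).2 hbot
    rw [mul_pow] at hn
    have hgn : g ^ n = 0 := (mem_nonZeroDivisors_iff_right.1 (pow_mem he n)) _ hn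
    have hgb : X'.basicOpen g = ⊥ := X'.basicOpen_eq_bot_of_isNilpotent V g ⟨n, hgn⟩
    rw [hgb] at hzg
    exact hzg
  have hηp : η ⤳ p := hη.specializes (hoT hpo)
  obtain ⟨y, hy⟩ : η ∈ Set.range j := hηp.mem_open j.opensRange.2 hpj
  refine le_iSup_of_le y ?_
  haveI : LocallyOfFiniteType (j ≫ b ≫ g₁) := inferInstance
  have hdeg : VarDim.deg f y = VarDim.deg (b ≫ g₁) η := by
    rw [← hy, ← VarDim.deg_comp (b ≫ g₁) j y]
    simp only [hfac]
  rw [hdeg]
  exact_mod_cast VarDim.deg_le_of_specializes (b ≫ g₁) (hη.specializes (hsub rfl))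

end Groth.Agent.Licht7
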