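import Groth.Agent.TopDual7.Local
import Groth.Agent.S1766
import Groth.Agent.KFlatLib.Scheme.RpushUnbounded
import Groth.Agent.DualLocal7.Components

/-!
# Top duality over a field
-/

set_option linter.style.haveILetI false
set_option backward.isDefEq.respectTransparency false
set_option backward.isDefEq.respectTransparency.types false

universe u

open CategoryTheory CategoryTheory.Limits AlgebraicGeometry

attribute [local instance] HasDerivedCategory.standard

namespace Groth.Agent.Licht7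

open Groth.Agent

/-- The dualizing module of a proper scheme over a field, with the non-vanishing. -/
theorem exists_omega (k : Type u) [Field k] (X : Scheme.{u}) [X.Over (Spec (CommRingCat.of k))]
    [IsProper (X ↘ Spec (CommRingCat.of k))] (d : ℕ) (hd : topologicalKrullDim X ≤ d) :
    ∃ (ω : X.Modules) (t : Coh.HH X ω d →ₗ[k] k), Coh.IsCoh ω ∧
      (∀ F : X.Modules, Coh.IsQCoh F → ∀ ψ : Coh.HH X F d →ₗ[k] k,
        ∃! φ : F ⟶ ω, ∀ x : Coh.HH X F d,
          ψ x = t (Sheaf.H.map ((SheafOfModules.toSheaf X.ringCatSheaf).map φ) d x)) ∧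
      ∀ Z ∈ irreducibleComponents X, topologicalKrullDim ↥Z = (d : WithBot ℕ∞) →
        ∀ x ∈ Z, Nontrivial (ω.presheaf.stalk x) := by
  haveI : ∀ (R : CommRingCat.{u}), PreservesFiniteLimits (tilde.functor R) :=
    fun R => QCoh.tilde_preservesFiniteLimits
  haveI : ∀ (U V : Scheme.{u}) (j : U ⟶ V) [IsOpenImmersion j], PreservesFiniteLimits (Scheme.Modules.restrictFunctor j) :=
    fun U V j _ => QCoh.restrict_preservesFiniteLimits j
  let p := X ↘ Spec (CommRingCat.of k)
  haveI : DCoh.HasRpush p := KFlatLib.hasRpush_scheme p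
  haveI : CompactSpace X := QuasiCompact.compactSpace_of_compactSpace p
  haveI : QuasiSeparatedSpace X := quasiSeparatedSpace_of_quasiSeparated p
  have hf : DCoh.RpushPreservesQCoh p := fun K hK => KFlatLib.isQCohD_rpush p hK
  haveI := Groth.Agent.S1766.result X _ p hf
  let adj := Adjunction.ofIsLeftAdjoint (DCoh.RpushQ p hf)
  let W : DCoh.DQCoh (Spec (CommRingCat.of k)) :=
    ⟨(DCoh.tildeD (CommRingCat.of k)).obj (Dual.inD k k), KFlatLib.isQCohD_tildeD _ _⟩
  have hω := DualLocal7.isDualizing_field k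
  have hn := DualLocal7.isNormalized_field k
  have hd' : topologicalKrullDim (p.fiber (IsLocalRing.closedPoint k)) ≤ (d : WithBot ℕ∞) :=
    (p.fiberHomeo _).isEmbedding.topologicalKrullDim_le.trans
      (Topology.IsEmbedding.subtypeVal.topologicalKrullDim_le.trans hd)
  obtain ⟨t, ht⟩ := TopDual7.exists_trace_local hf adj W hω hn ⟨Iso.refl _⟩ 0
    (ringKrullDim_eq_zero_of_field k) d d hd hd' rfl
  obtain ⟨e⟩ : Nonempty (Dual.HD k (Dual.inD k k) (-((0 : ℕ) : ℤ)) ≃ₗ[k] k) :=
    ⟨(((DerivedCategory.singleFunctorCompHomologyFunctorIso (ModuleCat.{u} k) 0).app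
      (ModuleCat.of k k)).toLinearEquiv)⟩
  refine ⟨_, e.toLinearMap.comp t, DualLocal7.isCohD hω p hf adj W ⟨Iso.refl _⟩ (-(d : ℤ)),
    fun F hF ψ => ?_, fun Z hZ hZd x hx =>
      (DualLocal7.support_eq hω hn p hf adj W ⟨Iso.refl _⟩ d hd).ge (Set.mem_iUnion₂.2 ⟨Z, ⟨hZ, hZd⟩, hx⟩)⟩
  obtain ⟨φ, h1, h2⟩ := ht F hF (e.symm.toLinearMap.comp ψ)
  refine ⟨φ, fun x => ?_, fun φ' h' => h2 φ' fun x => ?_⟩
  · exact (e.apply_symm_apply (ψ x)).symm.trans (congrArg e (h1 x))
  · show e.symm (ψ x) = _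
    rw [h' x]
    exact e.symm_apply_apply _

end Groth.Agent.Licht7
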