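import Groth.Agent.Licht7.Compact
import Groth.Agent.Licht7.Duality
import Groth.Agent.VanishGroth7.Noetherian
import Groth.Agent.QCoh.AffineCohom
import Groth.Agent.QCoh.SupportFT
import Groth.Agent.QCoh.Tilde
import Groth.Agent.PerfGen7.LowerBound
import Mathlib.RingTheory.Finiteness.Nakayama

/-!
# Lichtenbaum's theorem
-/

set_option linter.style.haveILetI false
set_option backward.isDefEq.respectTransparency false
set_option backward.isDefEq.respectTransparency.types false
set_option maxHeartbeats 2000000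

universe u

open CategoryTheory CategoryTheory.Limits AlgebraicGeometry TopologicalSpace Opposite

namespace Groth.Agent.Licht7

open Groth.Agent

variable {k : Type u} [Field k] {X : Scheme.{u}} (f : X ⟶ Spec (CommRingCat.of k))
  [IsSeparated f] [LocallyOfFiniteType f] [QuasiCompact f] (d : ℕ)

/-- A map from a direct image across a Cartier boundary to a coherent module vanishes near the boundary. -/
theorem stalk_image_subsingleton {X' : Scheme.{u}} [IsLocallyNoetherian X'] {j : X ⟶ X'} [IsOpenImmersion j]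
    [QuasiCompact j] [QuasiSeparated j] {M : X.Modules} (hM : Coh.IsQCoh M) {ω : X'.Modules} (hω : Coh.IsCoh ω)
    (φ : (Coh.push j).obj M ⟶ ω) {V : X'.Opens} (hV : IsAffineOpen V) (e : Γ(X', V))
    (he : V ⊓ j.opensRange = X'.basicOpen e) {p : X'} (hpV : p ∈ V) (hp : p ∉ j.opensRange)
    {z : X'} (hz : z ⤳ p) : Subsingleton ((Abelian.image φ).presheaf.stalk z) := by
  let N := (Coh.push j).obj M
  have hN : Coh.IsQCoh N := QCoh.isQCoh_pushforward j hM
  let G := Abelian.image φ
  have hG : Coh.IsQCoh G := QCoh.isQCoh_kernel hω.1 (QCoh.isQCoh_cokernel hN hω.1 φ) _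
  have hGc : Coh.IsCoh G := QCoh.isCoh_of_mono (Abelian.image.ι φ) hω hG
  haveI := QCoh.finite_sections hGc hV
  have hunit : IsUnit (j.app V e) := by
    refine X.toRingedSpace.isUnit_of_isUnit_germ _ _ fun y hy => ?_
    rw [← X.toRingedSpace.mem_basicOpen]
    show y ∈ X.basicOpen (j.app V e)
    rw [← Scheme.preimage_basicOpen, ← he]
    exact ⟨hy, y, rfl⟩
  have hdiv : (⊤ : Submodule Γ(X', V) Γ(G, V)) ≤ Ideal.span {e} • (⊤ : Submodule Γ(X', V) Γ(G, V)) := by
    rintro x -
    obtain ⟨y, rfl⟩ := QCoh.app_surjective_of_epi hN hG (Abelian.factorThruImage φ) hV x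
    obtain ⟨v, hv⟩ := hunit.exists_right_inv
    let y₀ : Γ(M, j ⁻¹ᵁ V) := y
    let y' : Γ(N, V) := (v • y₀ : Γ(M, j ⁻¹ᵁ V))
    have hy : y = e • y' := by
      show y₀ = j.app V e • (v • y₀)
      rw [smul_smul, hv, one_smul]
    rw [hy, Scheme.Modules.Hom.app_smul]
    exact Submodule.smul_mem_smul (Ideal.mem_span_singleton_self e) Submodule.mem_top
  obtain ⟨r, hr1, hr2⟩ := Submodule.exists_sub_one_mem_and_smul_eq_zero_of_fg_of_le_smul
    (Ideal.span {e}) ⊤ Module.Finite.fg_top hdiv
  obtain ⟨c, hc⟩ := Ideal.mem_span_singleton'.1 hr1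
  have hpe : p ∉ X'.basicOpen e := fun h => hp ((he.ge h).2)
  have hpr : p ∈ X'.basicOpen r := by
    rw [X'.mem_basicOpen _ _ hpV] at hpe ⊢
    have hr : r = c * e + 1 := by rw [hc]; ring
    rw [hr, map_add, map_mul, map_one]
    have hmem : X'.presheaf.germ V p hpV c * X'.presheaf.germ V p hpV e ∈
        IsLocalRing.maximalIdeal (X'.presheaf.stalk p) :=
      Ideal.mul_mem_left _ _ ((IsLocalRing.mem_maximalIdeal _).2 hpe)
    by_contra hu
    exact (IsLocalRing.maximalIdeal.isMaximal _).ne_top ((Ideal.eq_top_iff_one _).2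
      ((Submodule.add_mem_iff_right _ hmem).1 ((IsLocalRing.mem_maximalIdeal _).2 hu)))
  by_contra hne
  obtain ⟨m, hm⟩ := (QCoh.mem_support_iff hG hV (hz.mem_open V.2 hpV)).1 hne
  exact hm r (hz.mem_open (X'.basicOpen r).2 hpr) (hr2 m Submodule.mem_top)

/-- Without proper components of top dimension the top cohomology vanishes. -/
theorem subsingleton_top (hd : topologicalKrullDim X ≤ d)
    (h : ∀ (Z : Scheme.{u}) (i : Z ⟶ X) [IsClosedImmersion i] [IrreducibleSpace Z],
      topologicalKrullDim Z = d → ¬ IsProper (i ≫ f))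
    {M : X.Modules} (hM : Coh.IsQCoh M) : Subsingleton (Coh.HH X M d) := by
  obtain ⟨X', j, g, hj, hja, hg, hfac, hloc, hdim⟩ := exists_compactification f
  letI : X'.Over (Spec (CommRingCat.of k)) := ⟨g⟩
  haveI : IsProper (X' ↘ Spec (CommRingCat.of k)) := hg
  haveI : IsLocallyNoetherian X' := LocallyOfFiniteType.isLocallyNoetherian g
  haveI : CompactSpace X' := QuasiCompact.compactSpace_of_compactSpace g
  haveI : IsNoetherian X' := ⟨⟩
  obtain ⟨ω, t, hω, huniv, -⟩ := exists_omega k X' d (hdim.trans hd)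
  let N := (Coh.push j).obj M
  have hN : Coh.IsQCoh N := QCoh.isQCoh_pushforward j hM
  obtain ⟨eN⟩ := QCoh.HH_push_of_isAffineHom j hM d
  suffices hall : ∀ φ : N ⟶ ω, φ = 0 by
    suffices hs : Subsingleton (Coh.HH X' N d) from eN.toEquiv.subsingleton
    refine subsingleton_of_forall_eq 0 fun x => ?_
    by_contra hx
    obtain ⟨ψ, hψ⟩ := Module.Projective.exists_dual_ne_zero k hx
    obtain ⟨φ, hφ, -⟩ := huniv N hN ψ
    refine hψ ?_
    rw [hφ x, hall φ, Functor.map_zero, Sheaf.H.map_apply, Abelian.Ext.mk₀_zero, Abelian.Ext.comp_zero, map_zero]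
  intro φ
  let G := Abelian.image φ
  have hG : Coh.IsQCoh G := QCoh.isQCoh_kernel hω.1 (QCoh.isQCoh_cokernel hN hω.1 φ) _
  have hGc : Coh.IsCoh G := QCoh.isCoh_of_mono (Abelian.image.ι φ) hω hG
  let C : Closeds X' := ⟨CohB1.support G, QCoh.isClosed_support_of_isFT hG hGc.2⟩
  have hdeg : ∀ z : X', z ∈ (C : Set X') → VarDim.deg g z < d := fun z hzC => by
    have hle : ((VarDim.deg g z : ℕ∞) : WithBot ℕ∞) ≤ (d : WithBot ℕ∞) :=
      (le_iSup (fun x => ((VarDim.deg g x : ℕ∞) : WithBot ℕ∞)) z).trans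
        ((VarDim.topologicalKrullDim_eq_iSup_deg g).ge.trans (hdim.trans hd))
    refine lt_of_le_of_ne (by exact_mod_cast hle) fun hzd => hzC ?_
    by_cases hsub : closure ({z} : Set X') ⊆ Set.range j
    · exfalso
      let J := Scheme.IdealSheafData.vanishingIdeal (⟨closure {z}, isClosed_closure⟩ : Closeds X')
      have hrange : Set.range J.subschemeι = closure ({z} : Set X') := by
        rw [Scheme.IdealSheafData.range_subschemeι, Scheme.IdealSheafData.coe_support_vanishingIdeal]
        rfl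
      let i : J.subscheme ⟶ X := IsOpenImmersion.lift j J.subschemeι (hrange.trans_subset hsub)
      have hi : i ≫ j = J.subschemeι := IsOpenImmersion.lift_fac _ _ _
      haveI : IsClosedImmersion (i ≫ j) := hi ▸ inferInstance
      haveI : IsClosedImmersion i := IsClosedImmersion.of_comp i j
      let hemb := J.subschemeι.isEmbedding.toHomeomorph.trans (Homeomorph.setCongr hrange)
      haveI : IrreducibleSpace ↥(closure ({z} : Set X')) :=
        isIrreducible_iff_irreducibleSpace.1 isIrreducible_singleton.closure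
      haveI : IrreducibleSpace J.subscheme :=
        { toPreirreducibleSpace := ⟨by simpa [Set.image_univ, hemb.symm.surjective.range_eq] using ((IrreducibleSpace.isIrreducible_univ _).image _ hemb.symm.continuous.continuousOn).2⟩
          toNonempty := ⟨hemb.symm ⟨z, subset_closure rfl⟩⟩ }
      refine h J.subscheme i ?_ ?_
      · rw [IsHomeomorph.topologicalKrullDim_eq _ hemb.isHomeomorph, VarDim.topologicalKrullDim_closure_singleton g z, hzd]
        norm_cast
      · rw [← hfac, ← Category.assoc, hi]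
        infer_instance
    · obtain ⟨p, hp1, hp2⟩ := Set.not_subset.1 hsub
      obtain ⟨V, hV, e, hpV, he⟩ := hloc p hp2
      exact stalk_image_subsingleton hM hω φ hV e he hpV hp2 (specializes_iff_mem_closure.2 hp1)
  have hG0 : ∀ x : X', x ∉ (C : Set X') → IsZero ((VanishGroth7.stalkF x).obj (Coh.toAb G)) := fun x hx => by
    haveI : Subsingleton ↑((VanishGroth7.stalkF x).obj (Coh.toAb G)) := not_not.1 hx
    exact AddCommGrpCat.isZero_of_subsingleton _
  suffices hι : Abelian.image.ι φ = 0 by rw [← Abelian.image.fac φ, hι, comp_zero]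
  rcases Nat.eq_zero_or_pos d with hd0 | hd0
  · have hZ : IsZero G := by
      refine PerfGen7.LowerBound.isZero_of_stalks _ fun x => ?_
      haveI : Subsingleton ↑((DerSch.stalkFunctor X' x).obj G) :=
        not_not.1 fun hx => Nat.not_lt_zero (VarDim.deg g x) (hd0 ▸ hdeg x hx)
      exact ModuleCat.isZero_of_subsingleton _
    exact hZ.eq_of_src _ _
  have hH : Subsingleton (Coh.HH X' G d) := by
    obtain ⟨q, rfl⟩ : ∃ q, d = q + 1 := ⟨d - 1, by omega⟩
    have hdimC : topologicalKrullDim ↥(C : Set X') < ((q + 1 : ℕ) : WithBot ℕ∞) := by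
      show topologicalKrullDim ↥(C : Set X') < _
      rw [VarDim.topologicalKrullDim_set_eq_iSup_deg g (Z := (C : Set X')) C.2]
      refine lt_of_le_of_lt (b := ((q : ℕ) : WithBot ℕ∞)) (iSup_le fun z => ?_) (by exact_mod_cast Nat.lt_succ_self q)
      exact_mod_cast Nat.lt_succ_iff.1 (hdeg z.1 z.2)
    haveI : NoetherianSpace X'.toTopCat := (inferInstance : NoetherianSpace X')
    have hc := VanishGroth7.cdLE_of_support (q + 1) X'.toTopCat C hdimC (Coh.toAb G) hG0 q le_rfl
    exact (SiteBase.huTerminalEquiv isTerminalTop (Coh.toAb G) (q + 1)).symm.toEquiv.subsingleton_congr.2 hc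
  obtain ⟨φ₀, -, huq⟩ := huniv G hG 0
  refine (huq _ fun x => ?_).trans (huq 0 fun x => ?_).symm <;>
    rw [Subsingleton.elim x 0, map_zero, map_zero, map_zero]

/-- A proper irreducible closed subscheme of top dimension gives non-zero top cohomology. -/
theorem exists_nontrivial {Z : Scheme.{u}} (i : Z ⟶ X) [IsClosedImmersion i] [IrreducibleSpace Z]
    (hZd : topologicalKrullDim Z = d) (hi : IsProper (i ≫ f)) :
    ∃ M : X.Modules, Coh.IsCoh M ∧ Nontrivial (Coh.HH X M d) := by
  letI : Z.Over (Spec (CommRingCat.of k)) := ⟨i ≫ f⟩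
  haveI : IsProper (Z ↘ Spec (CommRingCat.of k)) := hi
  obtain ⟨ω, t, hω, huniv, hst⟩ := exists_omega k Z d hZd.le
  obtain ⟨e⟩ := QCoh.HH_push_of_isAffineHom i hω.1 d
  refine ⟨(Coh.push i).obj ω, QCoh.isCoh_pushforward_finite i hω, ?_⟩
  suffices hs : Nontrivial (Coh.HH Z ω d) from e.toEquiv.symm.nontrivial
  refine not_subsingleton_iff_nontrivial.1 fun hs => ?_
  obtain ⟨φ₀, -, huq⟩ := huniv ω hω.1 0
  have hid : 𝟙 ω = 0 := by
    refine (huq _ fun x => ?_).trans (huq 0 fun x => ?_).symm <;>
      rw [Subsingleton.elim x 0, map_zero, map_zero, map_zero]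
  obtain ⟨z⟩ : Nonempty Z := inferInstance
  have hcomp : (Set.univ : Set Z) ∈ irreducibleComponents Z :=
    ⟨IrreducibleSpace.isIrreducible_univ Z, fun S _ _ => Set.subset_univ S⟩
  haveI := hst Set.univ hcomp (by rw [IsHomeomorph.topologicalKrullDim_eq _ (Homeomorph.Set.univ Z).isHomeomorph]; exact hZd) z trivial
  have h0 : IsZero ω := (IsZero.iff_id_eq_zero ω).2 hid
  haveI : Subsingleton (ω.presheaf.stalk z) := ModuleCat.subsingleton_of_isZero ((DerSch.stalkFunctor Z z).map_isZero h0)
  exact not_nontrivial (ω.presheaf.stalk z) inferInstance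

end Groth.Agent.Licht7
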